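import Groth.Agent.VerschLib.Basic
import Groth.Prelude.Def_ConstGrp
import Groth.Prelude.Def_AlphaPn
import Mathlib.Algebra.DualNumber

/-!
Cartier duality: cocommutativity, primitives, full faithfulness, duals of constant and diagonalisable groups
and of `α_p`, characters as points of the dual.
-/

set_option autoImplicit false
set_option backward.isDefEq.respectTransparency false
set_option backward.isDefEq.respectTransparency.types false
set_option linter.unusedSectionVars false

universe u v w

open TensorProduct WithConv CartDual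

noncomputable section

namespace Groth.Agent.CartDualLib

section General

variable (R : Type u) [CommRing R] (A : Type v) [Ring A] [Bialgebra R A] [Module.Finite R A] [Module.Projective R A]

theorem tensor_ext {z z' : A ⊗[R] A} (h : ∀ x y : D R A, ev₂ R A (x ⊗ₜ y) z = ev₂ R A (x ⊗ₜ y) z') : z = z' := by
  refine (Module.bijective_dual_eval R (A ⊗[R] A)).1 (LinearMap.ext fun g => ?_)
  obtain ⟨y, rfl⟩ := (ev₂ R A).surjective g
  induction y using TensorProduct.induction_on with
  | zero => rw [map_zero, map_zero, map_zero]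
  | add a b ha hb => rw [map_add, map_add, map_add, ha, hb]
  | tmul x y => exact h x y

theorem mul_apply_eq_ev₂ (x y : D R A) (a : A) : (x * y) a = ev₂ R A (x ⊗ₜ y) (Coalgebra.comul (R := R) a) := by
  rw [ev₂_tmul_eq', LinearMap.convMul_apply]
  rfl

theorem isCocomm_of_mul_comm (h : ∀ x y : D R A, x * y = y * x) : Coalgebra.IsCocomm R A where
  comm_comp_comul := by
    refine LinearMap.ext fun a => tensor_ext R A fun x y => ?_
    have key : ∀ z, ev₂ R A (x ⊗ₜ y) (TensorProduct.comm R A A z) = ev₂ R A (y ⊗ₜ x) z := fun z => by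
      induction z using TensorProduct.induction_on with
      | zero => simp only [map_zero]
      | add u v hu hv => simp only [map_add, hu, hv]
      | tmul b c => rw [TensorProduct.comm_tmul, ev₂_tmul, ev₂_tmul, mul_comm]
    rw [LinearMap.comp_apply]
    change ev₂ R A (x ⊗ₜ y) (TensorProduct.comm R A A (Coalgebra.comul (R := R) a)) = _
    rw [key, ← mul_apply_eq_ev₂, ← mul_apply_eq_ev₂, h]

theorem comul_eq_of_derivation (d : D R A)
    (hd : ∀ x y : A, d (x * y) = Coalgebra.counit (R := R) x * d y + Coalgebra.counit (R := R) y * d x) :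
    Coalgebra.comul (R := R) d = d ⊗ₜ[R] (1 : D R A) + (1 : D R A) ⊗ₜ[R] d := by
  apply (ev₂ R A).injective
  apply TensorProduct.ext'
  intro a b
  rw [ev₂_coalgebra_comul_tmul, hd, map_add, LinearMap.add_apply, ev₂_tmul, ev₂_tmul, LinearMap.convOne_apply,
    LinearMap.convOne_apply, Algebra.algebraMap_self, RingHom.id_apply, RingHom.id_apply]
  ring

theorem evalLin_bijective : Function.Bijective (evalLin R A) :=
  (toDual R (D R A)).symm.bijective.comp
    (((toDual R A).dualMap).bijective.comp (Module.bijective_dual_eval R A))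

theorem transpose_bijective_of_bijective (B : Type w) [Ring B] [Bialgebra R B] [Module.Finite R B] [Module.Projective R B]
    (f : A →ₐc[R] B) (hf : Function.Bijective f) : Function.Bijective (transpose R f) := by
  let e := LinearEquiv.ofBijective (f : A →ₗ[R] B) hf
  refine ⟨fun x y h => ?_, fun y => ⟨WithConv.toConv (y.ofConv ∘ₗ e.symm.toLinearMap), ?_⟩⟩
  · refine WithConv.ext (LinearMap.ext fun b => ?_)
    obtain ⟨a, rfl⟩ := hf.2 b
    exact congrArg (fun k : D R A => k a) h
  · refine WithConv.ext (LinearMap.ext fun a => ?_)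
    change y.ofConv (e.symm (e a)) = y.ofConv a
    rw [e.symm_apply_apply]

end General

theorem transpose_bijective (R : Type u) [CommRing R] (A : Type v) (B : Type w)
    [CommRing A] [HopfAlgebra R A] [Coalgebra.IsCocomm R A] [Module.Finite R A] [Module.Projective R A]
    [CommRing B] [HopfAlgebra R B] [Coalgebra.IsCocomm R B] [Module.Finite R B] [Module.Projective R B] :
    Function.Bijective (fun f : A →ₐc[R] B => transpose R f) := by
  constructor
  · intro f g h
    refine DFunLike.ext _ _ fun a => (Module.bijective_dual_eval R B).1 (LinearMap.ext fun x => ?_)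
    exact congrArg (fun k : D R B →ₐc[R] D R A => (k (WithConv.toConv x)) a) h
  · intro φ
    let evB : B →ₐc[R] D R (D R B) := CartDual.eval R B
    let eB := BialgEquiv.ofBijective (R := R) (A := B) (B := D R (D R B)) evB (by exact evalLin_bijective R B)
    let f : A →ₐc[R] B := ((eB.symm : D R (D R B) →ₐc[R] B).comp (transpose R φ)).comp (CartDual.eval R A)
    refine ⟨f, DFunLike.ext _ _ fun x => WithConv.ext (LinearMap.ext fun a => ?_)⟩
    have h : CartDual.eval R B (f a) = transpose R φ (CartDual.eval R A a) :=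
      eB.apply_symm_apply _
    exact congrArg (fun k : D R (D R B) => k x) h

section Const

variable (R : Type u) [CommRing R] (G : Type v) [Group G] [Fintype G] [DecidableEq G]

/-- Evaluation of a form at the group elements. -/
def diagToConst : D R (MonoidAlgebra R G) →ₐ[R] ConstGrp.F R G where
  toFun y := fun g => y (MonoidAlgebra.single g 1)
  map_one' := funext fun g => by
    rw [LinearMap.convOne_apply, (MonoidAlgebra.isGroupLikeElem_single_one (R := R) (A := R) g).counit_eq_one, map_one]
    rfl
  map_mul' x y := funext fun g => by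
    change (x * y) (MonoidAlgebra.single g 1) = x (MonoidAlgebra.single g 1) * y (MonoidAlgebra.single g 1)
    rw [mul_apply_eq_ev₂, (MonoidAlgebra.isGroupLikeElem_single_one (R := R) (A := R) g).comul_eq_tmul_self, ev₂_tmul]
  map_zero' := rfl
  map_add' _ _ := rfl
  commutes' r := funext fun g => by
    rw [LinearMap.convAlgebraMap_apply, (MonoidAlgebra.isGroupLikeElem_single_one (R := R) (A := R) g).counit_eq_one,
      map_one, smul_eq_mul, mul_one]
    rfl

theorem diagToConst_apply (y : D R (MonoidAlgebra R G)) (g : G) :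
    diagToConst R G y g = y (MonoidAlgebra.single g 1) := rfl

/-- The bialgebra equivalence `D(R[G]) ≃ Maps(G, R)`. -/
def diagEquivConst : D R (MonoidAlgebra R G) ≃ₐc[R] ConstGrp.F R G :=
  BialgEquiv.ofBijective
    (BialgHom.ofAlgHom (diagToConst R G)
      (AlgHom.ext fun y => by
        change diagToConst R G y 1 = y 1
        rw [diagToConst_apply]; rfl)
      (AlgHom.ext fun y => by
        change Algebra.TensorProduct.map (diagToConst R G) (diagToConst R G) (Coalgebra.comul (R := R) y) =
          Coalgebra.comul (R := R) (diagToConst R G y)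
        rw [ConstGrp.comul_eq_sum]
        have key : ∀ z, Algebra.TensorProduct.map (diagToConst R G) (diagToConst R G) z =
            ∑ a : G, ∑ b : G, ev₂ R _ z (MonoidAlgebra.single a 1 ⊗ₜ MonoidAlgebra.single b 1) •
              (ConstGrp.e R a ⊗ₜ[R] ConstGrp.e R b) := fun z => by
          induction z using TensorProduct.induction_on with
          | zero => simp
          | add u v hu hv => simp only [map_add, hu, hv, LinearMap.add_apply, add_smul, Finset.sum_add_distrib]
          | tmul x x' =>
            rw [Algebra.TensorProduct.map_tmul]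
            conv_lhs => rw [ConstGrp.eq_sum_smul_e (diagToConst R G x), ConstGrp.eq_sum_smul_e (diagToConst R G x')]
            rw [TensorProduct.sum_tmul]
            refine Finset.sum_congr rfl fun a _ => ?_
            rw [TensorProduct.tmul_sum]
            refine Finset.sum_congr rfl fun b _ => ?_
            rw [ev₂_tmul, diagToConst_apply, diagToConst_apply, TensorProduct.smul_tmul_smul]
        rw [key]
        refine Finset.sum_congr rfl fun a _ => Finset.sum_congr rfl fun b _ => ?_
        rw [ev₂_coalgebra_comul_tmul, MonoidAlgebra.single_mul_single, one_mul, diagToConst_apply]))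
    ⟨fun x y h => WithConv.ext ((MonoidAlgebra.basis G R).ext fun g => by
        simpa [diagToConst_apply] using congrFun h g),
      fun f => ⟨WithConv.toConv ((MonoidAlgebra.basis G R).constr R f), funext fun g => by
        change (MonoidAlgebra.basis G R).constr R f (MonoidAlgebra.single g 1) = f g
        rw [← MonoidAlgebra.basis_apply, Module.Basis.constr_basis]⟩⟩

theorem exists_dual_monoidAlgebra :
    ∃ e : D R (MonoidAlgebra R G) ≃ₐc[R] ConstGrp.F R G,
      ∀ (y : D R (MonoidAlgebra R G)) (g : G), e y g = y (MonoidAlgebra.single g 1) :=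
  ⟨diagEquivConst R G, fun _ _ => rfl⟩

theorem exists_dual_const :
    ∃ e : D R (ConstGrp.F R G) ≃ₐc[R] MonoidAlgebra R G,
      ∀ y : D R (ConstGrp.F R G), e y = ∑ g : G, MonoidAlgebra.single g (y (ConstGrp.e R g)) := by
  let T := BialgEquiv.ofBijective (transpose R (diagEquivConst R G : D R (MonoidAlgebra R G) →ₐc[R] ConstGrp.F R G))
    (transpose_bijective_of_bijective R _ _ _ (diagEquivConst R G).toEquiv.bijective)
  let evM : MonoidAlgebra R G →ₐc[R] D R (D R (MonoidAlgebra R G)) := CartDual.eval R (MonoidAlgebra R G)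
  let E := BialgEquiv.ofBijective (R := R) (A := MonoidAlgebra R G) (B := D R (D R (MonoidAlgebra R G))) evM (by exact evalLin_bijective R _)
  refine ⟨T.trans E.symm, fun y => ?_⟩
  change E.symm (T y) = _
  apply E.toEquiv.injective
  change E (E.symm (T y)) = E _
  rw [BialgEquiv.apply_symm_apply]
  refine WithConv.ext (LinearMap.ext fun x => ?_)
  change y (diagEquivConst R G x) = x (∑ g : G, MonoidAlgebra.single g (y (ConstGrp.e R g)))
  conv_lhs => rw [ConstGrp.eq_sum_smul_e (diagEquivConst R G x)]
  rw [coe_apply, coe_apply, map_sum, map_sum]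
  refine Finset.sum_congr rfl fun g _ => ?_
  have h : MonoidAlgebra.single g (y (ConstGrp.e R g)) = y (ConstGrp.e R g) • MonoidAlgebra.single g (1 : R) := by simp
  rw [h, map_smul, map_smul, smul_eq_mul, smul_eq_mul, mul_comm]
  rfl

end Const

section AlphaP

variable (p : ℕ) [Fact p.Prime] (R : Type u) [CommRing R] [CharP R p]

/-- The algebra map to the dual numbers `x ↦ ε`. -/
def toDualNumber : AlphaP.A p R →ₐ[R] DualNumber R :=
  AlphaP.lift p R DualNumber.eps (pow_eq_zero_of_le (Fact.out : p.Prime).two_le DualNumber.eps_pow_two)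

theorem fst_toDualNumber (a : AlphaP.A p R) : (toDualNumber p R a).fst = Coalgebra.counit (R := R) a := by
  have h : (TrivSqZeroExt.fstHom R R R).comp (toDualNumber p R) = Bialgebra.counitAlgHom R (AlphaP.A p R) := by
    refine AlphaP.algHom_ext ?_
    rw [AlgHom.comp_apply, toDualNumber, AlphaP.lift_x, Bialgebra.counitAlgHom_apply, AlphaP.counit_x]
    exact DualNumber.fst_eps
  exact AlgHom.congr_fun h a

/-- The form dual to `x`. -/
def delta : D R (AlphaP.A p R) :=
  WithConv.toConv ((TrivSqZeroExt.sndHom R R).comp (toDualNumber p R).toLinearMap)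

theorem delta_apply (a : AlphaP.A p R) : delta p R a = (toDualNumber p R a).snd := rfl

theorem delta_x : delta p R (AlphaP.x p R) = 1 := by
  rw [delta_apply, toDualNumber, AlphaP.lift_x, DualNumber.snd_eps]

theorem delta_mul (a b : AlphaP.A p R) :
    delta p R (a * b) = Coalgebra.counit (R := R) a * delta p R b + Coalgebra.counit (R := R) b * delta p R a := by
  rw [delta_apply, delta_apply, delta_apply, map_mul, TrivSqZeroExt.snd_mul, fst_toDualNumber, fst_toDualNumber]
  simp [mul_comm]

theorem delta_one : delta p R 1 = 0 := by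
  rw [delta_apply, map_one, TrivSqZeroExt.snd_one]

theorem delta_pow_mul_x : ∀ (n : ℕ) (a : AlphaP.A p R),
    (delta p R ^ n) (a * AlphaP.x p R) = n * (delta p R ^ (n - 1)) a
  | 0, a => by
    rw [pow_zero, LinearMap.convOne_apply, Bialgebra.counit_mul, AlphaP.counit_x, mul_zero, map_zero]; simp
  | n + 1, a => by
    have key : ∀ z : AlphaP.A p R ⊗[R] AlphaP.A p R,
        ev₂ R _ ((delta p R ^ n) ⊗ₜ delta p R) (z * (AlphaP.x p R ⊗ₜ 1 + 1 ⊗ₜ AlphaP.x p R)) =
          (n : R) * ev₂ R _ ((delta p R ^ (n - 1)) ⊗ₜ delta p R) z +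
            ev₂ R _ ((delta p R ^ n) ⊗ₜ (1 : D R (AlphaP.A p R))) z := fun z => by
      induction z using TensorProduct.induction_on with
      | zero => simp
      | add u v hu hv => simp only [add_mul, map_add, hu, hv]; ring
      | tmul b c =>
        rw [mul_add, map_add, Algebra.TensorProduct.tmul_mul_tmul, Algebra.TensorProduct.tmul_mul_tmul, mul_one,
          mul_one, ev₂_tmul, ev₂_tmul, ev₂_tmul, ev₂_tmul, delta_pow_mul_x n b, delta_mul, delta_x, AlphaP.counit_x,
          LinearMap.convOne_apply, Algebra.algebraMap_self, RingHom.id_apply]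
        ring
    rw [pow_succ, mul_apply_eq_ev₂, Bialgebra.comul_mul, AlphaP.comul_x, key, ← mul_apply_eq_ev₂, ← mul_apply_eq_ev₂,
      mul_one, Nat.add_sub_cancel]
    rcases n with _ | n
    · simp
    · rw [Nat.add_sub_cancel, ← pow_succ]
      push_cast
      ring

theorem delta_pow_x_pow : ∀ n j : ℕ,
    (delta p R ^ n) (AlphaP.x p R ^ j) = if n = j then (n.factorial : R) else 0
  | n, 0 => by
    rw [pow_zero, VerschLib.apply_one, delta_one]
    rcases n with _ | n <;> simp
  | 0, j + 1 => by
    rw [pow_succ (AlphaP.x p R), delta_pow_mul_x]; simp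
  | n + 1, j + 1 => by
    rw [pow_succ (AlphaP.x p R), delta_pow_mul_x, Nat.add_sub_cancel, delta_pow_x_pow n j]
    split_ifs with h1 h2 h2
    · rw [Nat.factorial_succ, Nat.cast_mul]
    · omega
    · omega
    · rw [mul_zero]

theorem ext_pow {x y : D R (AlphaP.A p R)} (h : ∀ i < p, x (AlphaP.x p R ^ i) = y (AlphaP.x p R ^ i)) : x = y := by
  haveI : Nontrivial R := CharP.nontrivial_of_char_ne_one (Fact.out : p.Prime).ne_one
  exact WithConv.ext ((AlphaP.basis p R).ext fun i => by
    rw [AlphaP.basis_apply]; exact h i i.2)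

theorem delta_pow_p : delta p R ^ p = 0 :=
  ext_pow p R fun i hi => by
    rw [delta_pow_x_pow, if_neg (by omega)]; rfl

/-- The map `x ↦ δ`. -/
def theta : AlphaP.A p R →ₐ[R] D R (AlphaP.A p R) := AlphaP.lift p R (delta p R) (delta_pow_p p R)

theorem theta_x : theta p R (AlphaP.x p R) = delta p R := AlphaP.lift_x _ _

theorem theta_bijective : Function.Bijective (theta p R) := by
  haveI : Nontrivial R := CharP.nontrivial_of_char_ne_one (Fact.out : p.Prime).ne_one
  let b := AlphaP.basis p R
  have hu : ∀ i : Fin p, IsUnit ((i : ℕ).factorial : R) := fun i =>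
    (CharP.isUnit_natCast_iff (Fact.out : p.Prime)).2 fun h =>
      absurd ((Fact.out : p.Prime).dvd_factorial.1 h) (not_le.2 i.2)
  have hval : ∀ (c : Fin p → R) (j : Fin p),
      theta p R (∑ i, c i • b i) (AlphaP.x p R ^ (j : ℕ)) = c j * (j : ℕ).factorial := fun c j => by
    rw [map_sum, coe_apply, WithConv.ofConv_sum, LinearMap.sum_apply,
      Finset.sum_eq_single j (fun i _ hi => ?_) (fun h => absurd (Finset.mem_univ j) h)]
    · rw [map_smul, WithConv.ofConv_smul, LinearMap.smul_apply, AlphaP.basis_apply, map_pow (theta p R), theta_x, ← coe_apply,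
        delta_pow_x_pow, if_pos rfl, smul_eq_mul]
    · rw [map_smul, WithConv.ofConv_smul, LinearMap.smul_apply, AlphaP.basis_apply, map_pow (theta p R), theta_x, ← coe_apply,
        delta_pow_x_pow, if_neg (fun h => hi (Fin.ext h)), smul_zero]
  constructor
  · refine (injective_iff_map_eq_zero _).2 fun a ha => ?_
    rw [← b.sum_repr a] at ha ⊢
    refine Finset.sum_eq_zero fun j _ => ?_
    have h := hval (b.repr a) j
    rw [ha] at h
    rw [(hu j).mul_left_eq_zero.1 h.symm, zero_smul]
  · intro y
    let c : Fin p → R := fun i => y (AlphaP.x p R ^ (i : ℕ)) * ↑(hu i).unit⁻¹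
    refine ⟨∑ i, c i • b i, ext_pow p R fun j hj => ?_⟩
    refine (hval c ⟨j, hj⟩).trans ?_
    simp only [c]
    rw [mul_assoc, IsUnit.val_inv_mul, mul_one]

/-- `α_p` is self-dual. -/
theorem exists_dual_alphaP :
    ∃ e : D R (AlphaP.A p R) ≃ₐc[R] AlphaP.A p R,
      ∀ i : ℕ, i < p → (e.symm (AlphaP.x p R)) (AlphaP.x p R ^ i) = if i = 1 then 1 else 0 := by
  let θ : AlphaP.A p R →ₐc[R] D R (AlphaP.A p R) := BialgHom.ofAlgHom (theta p R)
    (AlphaP.algHom_ext (by
      rw [AlgHom.comp_apply, theta_x, Bialgebra.counitAlgHom_apply, Bialgebra.counitAlgHom_apply, AlphaP.counit_x,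
        coalgebra_counit_apply, delta_one]))
    (AlphaP.algHom_ext (by
      rw [AlgHom.comp_apply, AlgHom.comp_apply, theta_x, Bialgebra.comulAlgHom_apply, Bialgebra.comulAlgHom_apply,
        AlphaP.comul_x, comul_eq_of_derivation R _ _ (delta_mul p R), map_add, Algebra.TensorProduct.map_tmul,
        Algebra.TensorProduct.map_tmul, map_one, theta_x]))
  refine ⟨(BialgEquiv.ofBijective θ (theta_bijective p R)).symm, fun i _ => ?_⟩
  change theta p R (AlphaP.x p R) (AlphaP.x p R ^ i) = _
  rw [theta_x, ← pow_one (delta p R), delta_pow_x_pow]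
  rcases eq_or_ne i 1 with rfl | h
  · simp
  · rw [if_neg h, if_neg (Ne.symm h)]

end AlphaP

section NotSplit

variable (p : ℕ) [Fact p.Prime] (k : Type u) [Field k] [CharP k p]

theorem x_pow_ne_zero (n j : ℕ) (hj : j < p ^ n) : AlphaPn.x p n k ^ j ≠ 0 := by
  have h := (AlphaPn.basis p n k).ne_zero ⟨j, hj⟩
  rwa [AlphaPn.basis_apply] at h

theorem not_split (m : ℕ) (hm : 1 ≤ m) :
    (¬ ∃ ρ : AlphaPn.A p 1 k →ₐc[k] AlphaPn.A p (m + 1) k,
        (AlphaPn.restrict p (m + 1) k (Nat.le_add_left 1 m)).comp ρ = BialgHom.id k (AlphaPn.A p 1 k)) ∧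
    (¬ ∃ σ : AlphaPn.A p (m + 1) k →ₐc[k] AlphaPn.A p m k,
        σ.comp (AlphaPn.frob p m k) = BialgHom.id k (AlphaPn.A p m k)) := by
  have hp := (Fact.out : p.Prime)
  constructor
  · rintro ⟨ρ, hρ⟩
    let u := ρ (AlphaPn.x p 1 k)
    have hu : AlphaPn.restrict p (m + 1) k (Nat.le_add_left 1 m) u = AlphaPn.x p 1 k :=
      DFunLike.congr_fun hρ (AlphaPn.x p 1 k)
    obtain ⟨f, hf⟩ := AlphaPn.mk_surjective p (m + 1) k u
    have h1 : AlphaPn.mk p 1 k f = AlphaPn.x p 1 k := by
      have e : (AlphaPn.restrictAlg p (m + 1) k (Nat.le_add_left 1 m)).comp (AlphaPn.mk p (m + 1) k) = AlphaPn.mk p 1 k := by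
        refine Polynomial.algHom_ext ?_
        rw [AlgHom.comp_apply, AlphaPn.mk_X, AlphaPn.restrictAlg_x, AlphaPn.mk_X]
      rw [← e, AlgHom.comp_apply, hf]
      exact hu
    obtain ⟨g, hg⟩ : (Polynomial.X : Polynomial k) ^ (p ^ 1) ∣ f - Polynomial.X := AdjoinRoot.mk_eq_mk.1 h1
    rw [sub_eq_iff_eq_add] at hg
    have hu' : u = AlphaPn.x p (m + 1) k ^ p * AlphaPn.mk p (m + 1) k g + AlphaPn.x p (m + 1) k := by
      rw [← hf, hg, map_add, map_mul, map_pow, AlphaPn.mk_X, pow_one]
    have h0 : u ^ p = 0 := by
      rw [← map_pow, show AlphaPn.x p 1 k ^ p = 0 by simpa using AlphaPn.x_pow p 1 k, map_zero]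
    rw [hu', add_pow_char, mul_pow] at h0
    let x := AlphaPn.x p (m + 1) k
    have hnil : IsNilpotent (x ^ (p * p - p) * AlphaPn.mk p (m + 1) k g ^ p) := by
      refine Commute.isNilpotent_mul_right (Commute.all _ _) (IsNilpotent.pow_of_pos ⟨p ^ (m + 1), AlphaPn.x_pow p (m + 1) k⟩ ?_)
      have : p * 1 < p * p := Nat.mul_lt_mul_of_pos_left hp.one_lt hp.pos
      omega
    have h2 : x ^ p * (x ^ (p * p - p) * AlphaPn.mk p (m + 1) k g ^ p + 1) = 0 := by
      rw [mul_add, ← mul_assoc, ← pow_add, mul_one, Nat.add_sub_cancel' (Nat.le_mul_self p), ← h0, ← pow_mul]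
    refine x_pow_ne_zero p k (m + 1) p ?_ ((IsUnit.mul_left_eq_zero (hnil.isUnit_add_one)).1 h2)
    calc p = p ^ 1 := (pow_one p).symm
      _ < p ^ (m + 1) := Nat.pow_lt_pow_right hp.one_lt (by omega)
  · rintro ⟨σ, hσ⟩
    let w := σ (AlphaPn.x p (m + 1) k)
    let y := AlphaPn.x p m k
    have hw : w ^ p = y := by
      rw [← map_pow, ← AlphaPn.frob_x]
      exact DFunLike.congr_fun hσ y
    obtain ⟨f, hf⟩ := AlphaPn.mk_surjective p m k w
    have hw' : w = y * AlphaPn.mk p m k f.divX + algebraMap k _ (f.coeff 0) := by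
      rw [← hf]
      conv_lhs => rw [← Polynomial.X_mul_divX_add f, map_add, map_mul, AlphaPn.mk_X, ← Polynomial.algebraMap_eq, AlgHom.commutes]
    have hc : f.coeff 0 = 0 := by
      have h := congrArg (Bialgebra.counitAlgHom k (AlphaPn.A p m k)) hw
      rw [map_pow, hw', map_add, map_mul, AlgHom.commutes] at h
      simp only [y, Bialgebra.counitAlgHom_apply, AlphaPn.counit_x, zero_mul, zero_add, Algebra.algebraMap_self,
        RingHom.id_apply] at h
      exact eq_zero_of_pow_eq_zero h
    rw [hw', hc, map_zero, add_zero, mul_pow] at hw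
    have hnil : IsNilpotent (y ^ (p - 1) * AlphaPn.mk p m k f.divX ^ p) :=
      Commute.isNilpotent_mul_right (Commute.all _ _) (IsNilpotent.pow_of_pos ⟨p ^ m, AlphaPn.x_pow p m k⟩
        (by have := hp.two_le; omega))
    have h2 : y * (y ^ (p - 1) * AlphaPn.mk p m k f.divX ^ p - 1) = 0 := by
      rw [mul_sub, ← mul_assoc, ← pow_succ', Nat.sub_add_cancel hp.one_le, mul_one, hw, sub_self]
    refine x_pow_ne_zero p k m 1 (Nat.one_lt_pow (by omega) hp.one_lt) ?_
    rw [pow_one]
    exact (IsUnit.mul_left_eq_zero (IsNilpotent.isUnit_sub_one hnil)).1 h2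

end NotSplit

section Characters

variable (k : Type u) [Field k] (A : Type v) [CommRing A] [HopfAlgebra k A] [Coalgebra.IsCocomm k A]
  [FiniteDimensional k A] (S : Type w) [CommRing S] [Algebra k S]

/-- The pairing of `S ⊗ A` with forms. -/
def Ev : S ⊗[k] A →ₗ[k] D k A →ₗ[k] S where
  toFun g :=
    { toFun := fun x => TensorProduct.rid k S (((toDual k A x).lTensor S) g)
      map_add' := fun x y => by
        induction g using TensorProduct.induction_on with
        | zero => simp
        | add u v hu hv => simp only [map_add] at hu hv ⊢; rw [hu, hv]; abel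
        | tmul s a =>
          simp only [map_add, LinearMap.lTensor_tmul, TensorProduct.rid_tmul, LinearMap.add_apply, add_smul]
      map_smul' := fun c x => by
        induction g using TensorProduct.induction_on with
        | zero => simp
        | add u v hu hv => simp only [RingHom.id_apply] at hu hv ⊢; simp only [map_add, hu, hv, smul_add]
        | tmul s a =>
          simp only [map_smul, LinearMap.lTensor_tmul, TensorProduct.rid_tmul, LinearMap.smul_apply, RingHom.id_apply,
            smul_eq_mul, mul_smul] }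
  map_add' g h := LinearMap.ext fun x => by
    change TensorProduct.rid k S (((toDual k A x).lTensor S) (g + h)) = _
    rw [map_add, map_add]; rfl
  map_smul' c g := LinearMap.ext fun x => by
    change TensorProduct.rid k S (((toDual k A x).lTensor S) (c • g)) = _
    rw [map_smul, map_smul]; rfl

theorem Ev_apply (g : S ⊗[k] A) (x : D k A) : Ev k A S g x = TensorProduct.rid k S (((toDual k A x).lTensor S) g) := rfl

theorem Ev_tmul (s : S) (a : A) (x : D k A) : Ev k A S (s ⊗ₜ a) x = x a • s := by
  rw [Ev_apply, LinearMap.lTensor_tmul, TensorProduct.rid_tmul]; rfl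

theorem Ev_smul (t : S) (g : S ⊗[k] A) (x : D k A) : Ev k A S (t • g) x = t * Ev k A S g x := by
  induction g using TensorProduct.induction_on with
  | zero => simp
  | add u v hu hv => simp only [smul_add, map_add, LinearMap.add_apply, mul_add, hu, hv]
  | tmul s a => rw [TensorProduct.smul_tmul', Ev_tmul, Ev_tmul, smul_eq_mul, mul_smul_comm]

/-- `x ∘ Ev` as an `S`-linear form. -/
def form (x : D k A) : S ⊗[k] A →ₗ[S] S where
  toFun g := Ev k A S g x
  map_add' g h := by rw [map_add, LinearMap.add_apply]
  map_smul' t g := Ev_smul k A S t g x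

/-- The pairing of the square. -/
def form₂ (x y : D k A) : (S ⊗[k] A) ⊗[S] (S ⊗[k] A) →ₗ[S] S :=
  LinearMap.mul' S S ∘ₗ TensorProduct.map (form k A S x) (form k A S y)

theorem form₂_tmul (x y : D k A) (g h : S ⊗[k] A) :
    form₂ k A S x y (g ⊗ₜ h) = Ev k A S g x * Ev k A S h y := rfl

theorem form₂_comul (x y : D k A) (g : S ⊗[k] A) :
    form₂ k A S x y (Coalgebra.comul (R := S) g) = Ev k A S g (x * y) := by
  induction g using TensorProduct.induction_on with
  | zero => simp
  | add u v hu hv => simp only [map_add, LinearMap.add_apply, hu, hv]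
  | tmul s a =>
    rw [TensorProduct.comul_tmul, CommSemiring.comul_apply, Ev_tmul, mul_apply_eq_ev₂]
    generalize Coalgebra.comul (R := k) a = X
    induction X using TensorProduct.induction_on with
    | zero => simp
    | add u v hu hv => simp only [TensorProduct.tmul_add, map_add, hu, hv, add_smul]
    | tmul b c =>
      rw [TensorProduct.AlgebraTensorModule.tensorTensorTensorComm_tmul, form₂_tmul, Ev_tmul, Ev_tmul, ev₂_tmul,
        smul_mul_smul_comm, one_mul]

theorem Ev_one' (g : S ⊗[k] A) : Ev k A S g 1 = Coalgebra.counit (R := S) g := by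
  induction g using TensorProduct.induction_on with
  | zero => simp
  | add u v hu hv => simp only [map_add, LinearMap.add_apply, hu, hv]
  | tmul s a =>
    rw [Ev_tmul, TensorProduct.counit_tmul, CommSemiring.counit_apply, LinearMap.convOne_apply]
    rfl

theorem Ev_mul (u v : S ⊗[k] A) (φ ψ : D k A →ₐ[k] S) (hu : ∀ x, φ x = Ev k A S u x) (hv : ∀ x, ψ x = Ev k A S v x)
    (x : D k A) :
    Algebra.TensorProduct.lift φ ψ (fun _ _ => Commute.all _ _) (Coalgebra.comul (R := k) x) = Ev k A S (u * v) x := by
  let L : ∀ u v : S ⊗[k] A, D k A ⊗[k] D k A →ₗ[k] S := fun u v =>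
    LinearMap.mul' k S ∘ₗ TensorProduct.map (Ev k A S u) (Ev k A S v)
  have hL : ∀ u v, L u v (Coalgebra.comul (R := k) x) = Ev k A S (u * v) x := fun u v => by
    induction u using TensorProduct.induction_on with
    | zero => simp [L]
    | add a b ha hb => simp [L, add_mul, TensorProduct.map_add_left] at ha hb ⊢; rw [ha, hb]
    | tmul r a =>
      induction v using TensorProduct.induction_on with
      | zero => simp [L]
      | add c d hc hd => simp [L, mul_add, TensorProduct.map_add_right] at hc hd ⊢; rw [hc, hd]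
      | tmul s b =>
        rw [Algebra.TensorProduct.tmul_mul_tmul, Ev_tmul, ← ev₂_coalgebra_comul_tmul]
        generalize Coalgebra.comul (R := k) x = Y
        induction Y using TensorProduct.induction_on with
        | zero => simp
        | add y z hy hz => simp only [map_add, LinearMap.add_apply, hy, hz, add_smul]
        | tmul y z =>
          simp only [L, LinearMap.comp_apply, TensorProduct.map_tmul, LinearMap.mul'_apply, Ev_tmul, ev₂_tmul]
          rw [smul_mul_smul_comm]
  rw [← hL]
  generalize Coalgebra.comul (R := k) x = Y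
  induction Y using TensorProduct.induction_on with
  | zero => simp
  | add y z hy hz => simp only [map_add, hy, hz]
  | tmul y z =>
    rw [Algebra.TensorProduct.lift_tmul, hu, hv]; rfl

theorem repr_eq {ι : Type*} (b : Module.Basis ι k A) (g : S ⊗[k] A) (i : ι) :
    (Algebra.TensorProduct.basis S b).repr g i = Ev k A S g (WithConv.toConv (b.coord i)) := by
  induction g using TensorProduct.induction_on with
  | zero => simp
  | add u v hu hv => simp only [map_add, LinearMap.add_apply, Finsupp.add_apply, hu, hv]
  | tmul s a =>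
    rw [Algebra.TensorProduct.basis_repr_tmul, Ev_tmul]
    simp [Algebra.smul_def, mul_comm, coe_apply]

theorem exists_groupLike_mulEquiv :
    ∃ e : GroupLike S (S ⊗[k] A) ≃* WithConv (D k A →ₐ[k] S),
      ∀ (g : GroupLike S (S ⊗[k] A)) (x : D k A),
        (e g).ofConv x = TensorProduct.rid k S (((toDual k A x).lTensor S) g.val) := by
  let b := Module.finBasis k A
  let B := Algebra.TensorProduct.basis S b
  let toAlg : GroupLike S (S ⊗[k] A) → (D k A →ₐ[k] S) := fun g =>
    AlgHom.ofLinearMap (Ev k A S g.val) (by rw [Ev_one', g.2.counit_eq_one])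
      (fun x y => by rw [← form₂_comul, g.2.comul_eq_tmul_self, form₂_tmul])
  let F : GroupLike S (S ⊗[k] A) →ₙ* WithConv (D k A →ₐ[k] S) :=
    { toFun := fun g => WithConv.toConv (toAlg g)
      map_mul' := fun g h => by
        refine WithConv.ext (AlgHom.ext fun x => ?_)
        rw [AlgHom.convMul_apply, ofConv_toConv]
        exact (Ev_mul k A S g.val h.val (toAlg g) (toAlg h) (fun _ => rfl) (fun _ => rfl) x).symm }
  have hinj : ∀ u v : S ⊗[k] A, (∀ x, Ev k A S u x = Ev k A S v x) → u = v := fun u v h =>
    B.repr.injective (Finsupp.ext fun i => by rw [repr_eq, repr_eq, h])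
  have hbij : Function.Bijective F := by
    refine ⟨fun g h e => GroupLike.val_injective (hinj _ _ fun x => ?_), fun φ => ?_⟩
    · exact congrArg (fun w : WithConv (D k A →ₐ[k] S) => w.ofConv x) e
    let φ' := φ.ofConv
    let g := ∑ i, φ' (WithConv.toConv (b.coord i)) ⊗ₜ[k] b i
    have hg : ∀ x, Ev k A S g x = φ' x := fun x => by
      have hx : x = ∑ i, x (b i) • WithConv.toConv (b.coord i) := by
        refine WithConv.ext (b.ext fun j => ?_)
        rw [WithConv.ofConv_sum, LinearMap.sum_apply, Finset.sum_eq_single j (fun i _ hi => by simp [hi.symm])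
          (fun h => absurd (Finset.mem_univ j) h)]
        simp [coe_apply]
      conv_rhs => rw [hx]
      simp only [g, map_sum, LinearMap.sum_apply, Ev_tmul, map_smul]
    have hgl : IsGroupLikeElem S g := by
      refine ⟨by rw [← Ev_one', hg, map_one], ?_⟩
      refine (B.tensorProduct B).repr.injective (Finsupp.ext fun ⟨i, j⟩ => ?_)
      have key : ∀ z, (B.tensorProduct B).repr z (i, j) =
          form₂ k A S (WithConv.toConv (b.coord i)) (WithConv.toConv (b.coord j)) z := fun z => by
        induction z using TensorProduct.induction_on with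
        | zero => simp
        | add u v hu hv => simp only [map_add, Finsupp.add_apply, hu, hv]
        | tmul u v =>
          rw [Module.Basis.tensorProduct_repr_tmul_apply, repr_eq, repr_eq, form₂_tmul, smul_eq_mul, mul_comm]
      rw [key, key, form₂_comul, form₂_tmul, hg, hg, hg, map_mul]
    exact ⟨⟨g, hgl⟩, WithConv.ext (AlgHom.ext fun x => hg x)⟩
  exact ⟨MulEquiv.ofBijective F hbij, fun g x => rfl⟩

end Characters

end Groth.Agent.CartDualLib
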